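import Groth.Agent.Inters29.Length
import Groth.Agent.Inters29.Class
import Groth.Agent.NumTypeLib.Quad

/-!
# Degrees on curves in the closed fibre over a local ring
-/

set_option autoImplicit false
set_option linter.style.haveILetI false
set_option backward.isDefEq.respectTransparency.types false
set_option maxHeartbeats 800000

universe u

open CategoryTheory CategoryTheory.Limits AlgebraicGeometry Opposite TopologicalSpace
open Groth.Agent.Coherent Groth.Agent.PicLib Groth.Agent.AmpleLib Groth.Agent.EulerLib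

namespace Groth.Agent.NegDef13

section Cl

variable (k : Type u) [Field k] {E Y : Scheme.{u}} [E.Over (Spec (CommRingCat.of k))] (e : E ⟶ Y)

/-- The degree on `E`, on classes of invertible modules of `Y`. -/
noncomputable def degCl (a : PicM Y) : ℤ :=
  Curv2.deg k E ((Scheme.Modules.pullback e).obj (PicM.exists_eq_of a).choose) 1

variable [IsProper (E ↘ Spec (CommRingCat.of k))]

theorem degCl_of {L : Y.Modules} (hL : PicF.IsInvertible L) :
    degCl k e (PicM.of hL) = Curv2.deg k E ((Scheme.Modules.pullback e).obj L) 1 := by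
  obtain ⟨hL', h⟩ := (PicM.exists_eq_of (PicM.of hL)).choose_spec
  obtain ⟨w⟩ := (PicM.of_eq_iff hL hL').1 h
  exact CurveRR24.deg_congr k ((Scheme.Modules.pullback e).mapIso w.symm) 1

variable (hdim : topologicalKrullDim E ≤ 1)
include hdim

theorem degCl_mul (a b : PicM Y) : degCl k e (a * b) = degCl k e a + degCl k e b := by
  obtain ⟨L, hL, rfl⟩ := PicM.exists_eq_of a
  obtain ⟨M, hM, rfl⟩ := PicM.exists_eq_of b
  rw [PicM.of_mul, degCl_of, degCl_of, degCl_of]
  obtain ⟨w⟩ := exists_pullTensorIso e hL hM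
  rw [CurveRR24.deg_congr k w,
    CurveRR24.deg_tensor k hdim (PicLoc.isInvertible_pullback e hL) (PicLoc.isInvertible_pullback e hM)]

/-- The degree as a homomorphism. -/
noncomputable def degHom : Additive (PicM Y) →+ ℤ :=
  AddMonoidHom.mk' (fun a => degCl k e a.toMul) fun a b => degCl_mul k e hdim a.toMul b.toMul

theorem degCl_one : degCl k e (1 : PicM Y) = 0 := (degHom k e hdim).map_zero

theorem degCl_pow (a : PicM Y) (n : ℕ) : degCl k e (a ^ n) = n * degCl k e a := by
  have h := (degHom k e hdim).map_nsmul n (Additive.ofMul a)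
  rw [nsmul_eq_mul] at h
  exact h

theorem degCl_prod {ι : Type*} (t : Finset ι) (a : ι → PicM Y) :
    degCl k e (∏ i ∈ t, a i) = ∑ i ∈ t, degCl k e (a i) :=
  map_sum (degHom k e hdim) (fun i => Additive.ofMul (a i)) t

theorem deg_inverse_eq_neg {L : Y.Modules} {I : Y.IdealSheafData} (hI : BlowUp.IsEffCartierIdeal I)
    (hL : ClSub.IsInverseOf L (ClSub.idealMod I)) :
    Curv2.deg k E ((Scheme.Modules.pullback e).obj L) 1 = - degCl k e (Inters29.idealCl I hI) := by
  obtain ⟨w⟩ := hL
  have hLi : PicF.IsInvertible L := PicM.isInvertible_of_tensor (FlatMor12.IdealModGen.isInvertible_idealMod I hI)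
    (glocus_isInvertible_of_iso (tensorComm _ _ ≪≫ w).symm isInvertible_structureModule)
  have h : PicM.of hLi * Inters29.idealCl I hI = 1 := by
    rw [Inters29.idealCl, PicM.of_mul, PicM.of_eq_one_iff]; exact ⟨w⟩
  have h' := congrArg (degCl k e) h
  rw [degCl_mul k e hdim, degCl_one k e hdim, degCl_of] at h'
  omega

theorem deg_inverse_eq_finrank [IsIntegral E] {L : Y.Modules} {I : Y.IdealSheafData} (hI : BlowUp.IsEffCartierIdeal I)
    (hL : ClSub.IsInverseOf L (ClSub.idealMod I)) (hη : e (genericPoint E) ∉ (I.support : Set Y)) :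
    Curv2.deg k E ((Scheme.Modules.pullback e).obj L) 1 =
      (Module.finrank k (Coh.HH E (ClSub.quotMod (I.comap e)) 0) : ℤ) := by
  obtain ⟨w⟩ := hL
  have hLi : PicF.IsInvertible L := PicM.isInvertible_of_tensor (FlatMor12.IdealModGen.isInvertible_idealMod I hI)
    (glocus_isInvertible_of_iso (tensorComm _ _ ≪≫ w).symm isInvertible_structureModule)
  rw [← Inters29.curveDeg_eq_deg k hdim (PicLoc.isInvertible_pullback e hLi)]
  exact Inters29.curveDeg_inverse_eq k hdim e I hI hη ⟨w⟩

/-- The degree of an effective divisor not containing the curve. -/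
theorem degCl_idealCl [IsIntegral E] {I : Y.IdealSheafData} (hI : BlowUp.IsEffCartierIdeal I)
    (hη : e (genericPoint E) ∉ (I.support : Set Y)) :
    degCl k e (Inters29.idealCl I hI) = - (Module.finrank k (Coh.HH E (ClSub.quotMod (I.comap e)) 0) : ℤ) := by
  obtain ⟨eI⟩ := Inters29.nonempty_pullback_idealMod_iso e I hI (Inters29.isEffCartier_comap_of_generic e I hI hη)
  rw [Inters29.idealCl, degCl_of, CurveRR24.deg_congr k eI]
  exact Inters29.deg_idealMod k hdim _ (by rw [Scheme.IdealSheafData.support_comap]; exact hη)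

end Cl

section Length

variable (R : Type u) [CommRing R] [IsLocalRing R] {E Y : Scheme.{u}} [Y.Over (Spec (CommRingCat.of R))]
  [E.Over (Spec (CommRingCat.of (IsLocalRing.ResidueField R)))]
  [IsProper (E ↘ Spec (CommRingCat.of (IsLocalRing.ResidueField R)))]
  (e : E ⟶ Y) [IsClosedImmersion e]
  (hw : e ≫ (Y ↘ Spec (CommRingCat.of R)) =
    (E ↘ Spec (CommRingCat.of (IsLocalRing.ResidueField R))) ≫ Spec.map (CommRingCat.ofHom (IsLocalRing.residue R)))
include hw

theorem length_quotMod_map (Z : E.IdealSheafData) :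
    (Module.length R (Coh.HH Y (ClSub.quotMod (Z.map e)) 0)).toNat =
      Module.finrank (IsLocalRing.ResidueField R) (Coh.HH E (ClSub.quotMod Z) 0) := by
  let k := IsLocalRing.ResidueField R
  let J := Z.map e
  let t : Z.subscheme ⟶ J.subscheme := (Z.subschemeι ≫ e).toImage
  haveI : IsIso t := inferInstanceAs (IsIso (Z.subschemeι ≫ e).toImage)
  have ht : t ≫ J.subschemeι = Z.subschemeι ≫ e := (Z.subschemeι ≫ e).toImage_imageι
  let M := GA (baseHom k E) (ClSub.quotMod Z)
  letI : Module R M := Module.compHom M (IsLocalRing.residue R)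
  haveI : IsScalarTower R k M := .of_algebraMap_smul fun _ _ => rfl
  let F : Γ(J.subscheme, ⊤) →+* Γ(Z.subscheme, ⊤) := t.appTop.hom
  haveI : IsIso t.appTop := inferInstanceAs (IsIso (t.app ⊤))
  have hF : Function.Bijective F := ConcreteCategory.bijective_of_isIso t.appTop
  have hscal : ∀ r : R, F (J.subschemeι.appTop.hom (baseHom R Y r)) =
      Z.subschemeι.appTop.hom (baseHom k E (IsLocalRing.residue R r)) := by
    intro r
    have h1 : (t ≫ J.subschemeι ≫ (Y ↘ Spec (CommRingCat.of R))) = Z.subschemeι ≫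
        (E ↘ Spec (CommRingCat.of k)) ≫ Spec.map (CommRingCat.ofHom (IsLocalRing.residue R)) := by
      rw [reassoc_of% ht, hw]
    have h2 := congrArg (fun g : Z.subscheme ⟶ Spec (CommRingCat.of R) =>
      g.appTop.hom ((Scheme.ΓSpecIso (CommRingCat.of R)).inv.hom r)) h1
    simp only [Scheme.Hom.comp_appTop, CommRingCat.comp_apply] at h2
    refine h2.trans ?_
    refine congrArg (fun a => Z.subschemeι.appTop.hom ((E ↘ Spec (CommRingCat.of k)).appTop.hom a)) ?_
    have h3 := congr($(Scheme.ΓSpecIso_inv_naturality (CommRingCat.ofHom (IsLocalRing.residue R))) r)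
    exact h3.symm
  let ψ : GA (baseHom R Y) (ClSub.quotMod J) →ₗ[R] M :=
    { toFun := fun s => (show Γ(Z.subscheme, ⊤) from F (show Γ(J.subscheme, ⊤) from s))
      map_add' := fun a b => map_add F _ _
      map_smul' := fun r s => (map_mul F _ _).trans (congrArg (· * _) (hscal r)) }
  let e' := LinearEquiv.ofBijective ψ hF
  haveI := CurveRR24.isLocallyNoetherian_of_proper k (X := E)
  have hfin : Module.Finite k M :=
    haveI := CurveRR24.finite_HH_of_isCoh k (CurveRR24.isCoh_quotMod Z) 0
    Module.Finite.equiv (CurveRR24.hhZero k (ClSub.quotMod Z))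
  rw [(CurveRR24.hhZero R (ClSub.quotMod J)).length_eq, e'.length_eq,
    Module.length_eq_of_surjective (R := k) (S := R) (M := M) IsLocalRing.residue_surjective,
    Module.length_eq_finrank, ENat.toNat_coe, (CurveRR24.hhZero k (ClSub.quotMod Z)).finrank_eq]

end Length

section Matrix

open Matrix Finset

/-- A symmetric matrix with nonnegative off-diagonal part, connected, and a positive vector with
nonpositive, somewhere negative, image is negative definite. -/
theorem negDef_of_excess {n : ℕ} (A : Fin n → Fin n → ℚ) (hsymm : ∀ i j, A i j = A j i)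
    (hoff : ∀ i j, i ≠ j → 0 ≤ A i j) (m : Fin n → ℚ) (hm : ∀ i, 0 < m i)
    (hrow : ∀ i, ∑ j, A i j * m j ≤ 0) (hneg : ∃ i, ∑ j, A i j * m j < 0)
    (hconn : ∀ I : Finset (Fin n), I.Nonempty → I ≠ univ → ∃ i ∈ I, ∃ j ∉ I, A i j ≠ 0)
    (x : Fin n → ℚ) (hx : x ≠ 0) : ∑ i, ∑ j, x i * A i j * x j < 0 := by
  let c : Fin n → ℚ := fun i => -∑ j, A i j * m j
  let B : Matrix (Option (Fin n)) (Option (Fin n)) ℚ := Matrix.of fun p q => match p, q with
    | some i, some j => A i j
    | some i, none => c i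
    | none, some j => c j
    | none, none => -∑ i, c i * m i
  let m' : Option (Fin n) → ℚ := fun p => p.elim 1 m
  have hBs : B.IsSymm := Matrix.IsSymm.ext fun p q => by
    rcases p with _ | i <;> rcases q with _ | j <;> first | rfl | exact hsymm _ _
  have hBoff : ∀ p q, p ≠ q → 0 ≤ B p q := by
    rintro (_ | i) (_ | j) h
    · exact absurd rfl h
    · exact neg_nonneg.2 (hrow j)
    · exact neg_nonneg.2 (hrow i)
    · exact hoff i j fun e => h (congrArg some e)
  have hBm : B *ᵥ m' = 0 := by
    funext p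
    show ∑ q, B p q * m' q = 0
    rw [Fintype.sum_option]
    rcases p with _ | i
    · show (-∑ i, c i * m i) * 1 + ∑ j, c j * m j = 0
      rw [mul_one, neg_add_cancel]
    · show c i * 1 + ∑ j, A i j * m j = 0
      rw [mul_one, neg_add_cancel]
  have hm' : ∀ p, 0 < m' p := fun p => by rcases p with _ | i; exacts [one_pos, hm i]
  obtain ⟨i₀, hi₀⟩ := hneg
  have hc₀ : B none (some i₀) ≠ 0 := (neg_pos.2 hi₀).ne'
  have hc₁ : B (some i₀) none ≠ 0 := (neg_pos.2 hi₀).ne'
  have hBconn : ∀ I : Finset (Option (Fin n)), I.Nonempty → I ≠ univ → ∃ p ∈ I, ∃ q ∉ I, B p q ≠ 0 := by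
    intro I hI hI'
    let I₀ : Finset (Fin n) := univ.filter fun i => some i ∈ I
    have hI₀ : ∀ i, i ∈ I₀ ↔ some i ∈ I := fun i => by simp [I₀]
    by_cases h₀ : I₀.Nonempty
    · by_cases h₁ : I₀ = univ
      · have hall : ∀ i, some i ∈ I := fun i => (hI₀ i).1 (h₁ ▸ mem_univ i)
        have hnone : none ∉ I := fun h => hI' (eq_univ_of_forall fun p => by rcases p with _ | i; exacts [h, hall i])
        exact ⟨some i₀, hall i₀, none, hnone, hc₁⟩
      · obtain ⟨i, hi, j, hj, hij⟩ := hconn I₀ h₀ h₁
        exact ⟨some i, (hI₀ i).1 hi, some j, fun h => hj ((hI₀ j).2 h), hij⟩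
    · have hnone : none ∈ I := by
        obtain ⟨p, hp⟩ := hI
        rcases p with _ | i
        · exact hp
        · exact absurd ⟨i, (hI₀ i).2 hp⟩ h₀
      exact ⟨none, hnone, some i₀, fun h => h₀ ⟨i₀, (hI₀ i₀).2 h⟩, hc₀⟩
  let x' : Option (Fin n) → ℚ := fun p => p.elim 0 x
  obtain ⟨hle, heq⟩ := NumTypeLib.quad_nonpos_and hBs hBoff hm' hBm hBconn x'
  have hval : x' ⬝ᵥ (B *ᵥ x') = ∑ i, ∑ j, x i * A i j * x j := by
    show ∑ p, x' p * ∑ q, B p q * x' q = _
    rw [Fintype.sum_option]
    show 0 * _ + ∑ i, x i * ∑ q, B (some i) q * x' q = _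
    rw [zero_mul, zero_add]
    refine Finset.sum_congr rfl fun i _ => ?_
    rw [Fintype.sum_option, mul_add, Finset.mul_sum]
    show x i * (c i * 0) + ∑ j, x i * (A i j * x j) = _
    rw [mul_zero, mul_zero, zero_add]
    exact Finset.sum_congr rfl fun j _ => (mul_assoc _ _ _).symm
  rw [hval] at hle heq
  refine lt_of_le_of_ne hle fun h0 => hx ?_
  obtain ⟨q, hq⟩ := heq.1 h0
  have hq0 : q = 0 := by simpa [x', m'] using (congrFun hq none).symm
  funext i
  simpa [x', hq0] using congrFun hq (some i)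

end Matrix

end Groth.Agent.NegDef13
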